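import Groth.Agent.Models.H51.RelMin
import Groth.Agent.S3256

/-!
# Minimal models from arithmetic surfaces
-/

set_option autoImplicit false
universe u

open CategoryTheory CategoryTheory.Limits AlgebraicGeometry Opposite TopologicalSpace

namespace Groth.Agent.Models.H51.MinModel

open Groth.Agent.Dix.GenFibre Groth.Agent.Models.H51.RelMin

variable {R : Type u} [CommRing R] [IsDomain R] [IsDiscreteValuationRing R]

/-- A regular proper model which is an arithmetic surface maps to a minimal model (which is an arithmetic surface and
relatively minimal), compatibly with the identifications of the generic fibres. -/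
theorem exists_hom_minimalModel {X : Over (Spec (CommRingCat.of R))} (hX : ArSurf.IsArithSurface R X)
    {C : Scheme.{u}} {f : C ⟶ Spec (CommRingCat.of (FractionRing R))}
    {g : C ⟶ X.left} (hg : IsPullback g f X.hom (Neron.genPt R)) :
    ∃ (Y : Over (Spec (CommRingCat.of R))) (b : X ⟶ Y), ArSurf.IsArithSurface R Y ∧
      Neron.IsRelMinimalRegularModel R Y ∧ IsIso ((Neron.genericFibre R).map b) ∧
      Models.IsMinimalModel R Y.left Y.hom C f ∧ IsPullback (g ≫ b.left) f Y.hom (Neron.genPt R) := by
  obtain ⟨Y, b, hY, hmin, hb⟩ := Groth.Agent.S3256.result X hX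
  have hg' := isPullback_of_isIso_genericFibre b hg
  exact ⟨Y, b, hY, hmin, hb, isMinimalModel_of_isRelMinimal hY hmin hg', hg'⟩

end Groth.Agent.Models.H51.MinModel
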